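import Groth.Agent.FibBCLib.TorsorQuot
import Groth.Agent.DescLib.Main
import Groth.Prelude.Def_ChGrp

/-!
# The associated bundle of a torsor with affine fibre
-/

set_option autoImplicit false
set_option backward.isDefEq.respectTransparency false
set_option backward.isDefEq.respectTransparency.types false
set_option linter.style.haveILetI false

noncomputable section

universe u

open CategoryTheory CategoryTheory.Limits MonoidalCategory CartesianMonoidalCategory AlgebraicGeometry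
open scoped MonObj

namespace Groth.Agent.AssocBun

variable {S : Scheme.{u}} {G X Y F : Over S} [GrpObj G] {a : AlgGrp.Action G X} {φ : X ⟶ Y}
  (hcart : IsPullback a.act (snd G X) φ φ) (b : AlgGrp.Action G F)

/-- The element of the group carrying `x` to `y`. -/
def div {T : Over S} (x y : T ⟶ X) (h : y ≫ φ = x ≫ φ) : T ⟶ G :=
  hcart.lift y x h ≫ fst G X

theorem div_spec {T : Over S} (x y : T ⟶ X) (h : y ≫ φ = x ≫ φ) :
    lift (div hcart x y h) x ≫ a.act = y := by
  have e : lift (div hcart x y h) x = hcart.lift y x h :=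
    CartesianMonoidalCategory.hom_ext _ _ (lift_fst _ _) ((lift_snd _ _).trans (hcart.lift_snd y x h).symm)
  rw [e, hcart.lift_fst]

include hcart in
theorem act_cancel {T : Over S} {g g' : T ⟶ G} {x : T ⟶ X} (h : lift g x ≫ a.act = lift g' x ≫ a.act) :
    g = g' := by
  have e : lift g x = lift g' x := hcart.hom_ext h (by simp)
  simpa using congrArg (· ≫ fst G X) e

variable {T : Scheme.{u}} (x₀ x₁ : T ⟶ X.left) (h : x₀ ≫ φ.left = x₁ ≫ φ.left)

/-- The first point. -/
abbrev z₀ : Over.mk (x₀ ≫ X.hom) ⟶ X := Over.homMk x₀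

/-- The second point. -/
abbrev z₁ : Over.mk (x₀ ≫ X.hom) ⟶ X :=
  Over.homMk x₁ (by
    change x₁ ≫ X.hom = x₀ ≫ X.hom
    rw [← Over.w φ, reassoc_of% h])

/-- A lift as a point of `X ⊗ F`. -/
abbrev pt (v : Desc.Lifts (Over.mk (fst X F).left) x₀) : Over.mk (x₀ ≫ X.hom) ⟶ X ⊗ F :=
  Over.homMk v.1 (by
    have e : v.1 ≫ (fst X F).left = x₀ := v.2
    change v.1 ≫ (X ⊗ F).hom = x₀ ≫ X.hom
    rw [← Over.w (fst X F), reassoc_of% e])

theorem pt_fst (v : Desc.Lifts (Over.mk (fst X F).left) x₀) : pt x₀ v ≫ fst X F = z₀ x₀ :=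
  Over.OverMorphism.ext v.2

/-- The gluing. -/
def glue (v : Desc.Lifts (Over.mk (fst X F).left) x₀) : Desc.Lifts (Over.mk (fst X F).left) x₁ :=
  ⟨(lift (div hcart (z₀ x₀) (z₁ x₀ x₁ h) (Over.OverMorphism.ext h.symm)) (pt x₀ v) ≫ (a.prod b).act).left, by
    change (_ ≫ (fst X F).left) = x₁
    rw [← Over.comp_left]
    refine congrArg Over.Hom.left (a₂ := z₁ x₀ x₁ h) ?_
    rw [AlgGrp.Action.prod_act, comp_lift, lift_fst, lift_whiskerLeft_assoc, pt_fst, div_spec]⟩

theorem glue_eq {W : Over S} (g : W ⟶ G) (V : W ⟶ X ⊗ F) (y₀ y₁ : W.left ⟶ X.left)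
    (h : y₀ ≫ φ.left = y₁ ≫ φ.left) (v : Desc.Lifts (Over.mk (fst X F).left) y₀) (hv : v.1 = V.left)
    (hg : (lift g (V ≫ fst X F) ≫ a.act).left = y₁) :
    (glue hcart b y₀ y₁ h v).1 = (lift g V ≫ (a.prod b).act).left := by
  have h0 : y₀ = (V ≫ fst X F).left := by
    rw [Over.comp_left, ← hv]; exact v.2.symm
  let i : W ⟶ Over.mk (y₀ ≫ X.hom) := Over.homMk (𝟙 _) (by
    rw [Category.id_comp]; change y₀ ≫ X.hom = W.hom; rw [h0, Over.w])
  have hV : i ≫ pt y₀ v = V := Over.OverMorphism.ext ((Category.id_comp _).trans hv)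
  have he : i ≫ div hcart (z₀ y₀) (z₁ y₀ y₁ h) (Over.OverMorphism.ext h.symm) = g := by
    refine act_cancel hcart (x := V ≫ fst X F) ?_
    have e1 : i ≫ z₀ y₀ = V ≫ fst X F := Over.OverMorphism.ext ((Category.id_comp _).trans h0)
    conv_lhs => rw [← e1, ← comp_lift, Category.assoc, div_spec]
    exact Over.OverMorphism.ext ((Category.id_comp _).trans hg.symm)
  rw [← he, ← hV, ← comp_lift, Category.assoc]
  exact (Category.id_comp _).symm

theorem glue_self (v : Desc.Lifts (Over.mk (fst X F).left) x₀) : glue hcart b x₀ x₀ rfl v = v := by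
  refine Subtype.ext ((glue_eq hcart b (1 : _ ⟶ G) (pt x₀ v) x₀ x₀ rfl v rfl ?_).trans ?_)
  · rw [AlgGrp.Action.lift_one_act, pt_fst]; rfl
  · rw [AlgGrp.Action.lift_one_act]; rfl

theorem glue_glue (x₂ : T ⟶ X.left) (h' : x₁ ≫ φ.left = x₂ ≫ φ.left) (v : Desc.Lifts (Over.mk (fst X F).left) x₀) :
    glue hcart b x₁ x₂ h' (glue hcart b x₀ x₁ h v) = glue hcart b x₀ x₂ (h.trans h') v := by
  have hφ : z₁ x₀ x₂ (h.trans h') ≫ φ = z₁ x₀ x₁ h ≫ φ := Over.OverMorphism.ext h'.symm
  refine Subtype.ext ((glue_eq hcart b (div hcart (z₁ x₀ x₁ h) (z₁ x₀ x₂ (h.trans h')) hφ)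
    (lift (div hcart (z₀ x₀) (z₁ x₀ x₁ h) (Over.OverMorphism.ext h.symm)) (pt x₀ v) ≫ (a.prod b).act)
    x₁ x₂ h' _ rfl ?_).trans ?_)
  · rw [AlgGrp.Action.prod_act, comp_lift, lift_fst, lift_whiskerLeft_assoc, pt_fst, div_spec, div_spec]; rfl
  · rw [← AlgGrp.Action.lift_mul_act]
    refine (glue_eq hcart b _ (pt x₀ v) x₀ x₂ (h.trans h') v rfl ?_).symm
    rw [AlgGrp.Action.lift_mul_act, pt_fst, div_spec, div_spec]; rfl

/-- The descent datum. -/
def datum : Desc.SchDD φ.left where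
  obj := Over.mk (fst X F).left
  φ T x₀ x₁ h :=
    { toFun := glue hcart b x₀ x₁ h
      invFun := glue hcart b x₁ x₀ h.symm
      left_inv := fun v => by rw [glue_glue, glue_self]
      right_inv := fun v => by rw [glue_glue, glue_self] }
  φ_natural T T' f x₀ x₁ h h' v v' hv := by
    let i : Over.mk ((f ≫ x₀) ≫ X.hom) ⟶ Over.mk (x₀ ≫ X.hom) := Over.homMk f (Category.assoc _ _ _).symm
    change (glue hcart b (f ≫ x₀) (f ≫ x₁) h' v').1 = f ≫ (glue hcart b x₀ x₁ h v).1
    refine (glue_eq hcart b (i ≫ div hcart (z₀ x₀) (z₁ x₀ x₁ h) (Over.OverMorphism.ext h.symm))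
      (i ≫ pt x₀ v) (f ≫ x₀) (f ≫ x₁) h' v' hv ?_).trans ?_
    · rw [Category.assoc i, pt_fst, ← comp_lift, Category.assoc i, div_spec]; rfl
    · rw [← comp_lift, Category.assoc i]; rfl
  φ_self T x v := glue_self hcart b x v
  φ_comp T x₀ x₁ x₂ h₀₁ h₁₂ v := glue_glue hcart b x₀ x₁ h₀₁ x₂ h₁₂ v

include hcart b in
/-- The associated bundle. -/
theorem exists_bundle [IsAffineHom F.hom] [DescLib.Fpqc φ.left] :
    ∃ (Q : Over S) (q : X ⊗ F ⟶ Q) (r : Q ⟶ Y),
      IsPullback (fst X F).left q.left φ.left r.left ∧ IsPullback (a.prod b).act (snd G (X ⊗ F)) q q := by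
  haveI : IsAffineHom (datum hcart b).obj.hom := by
    change IsAffineHom (fst X F).left
    rw [Over.fst_left]
    exact MorphismProperty.pullback_fst _ _ inferInstance
  obtain ⟨U, ⟨e⟩⟩ := DescLib.effective_of_isAffineHom (datum hcart b)
  have he : e.hom.hom.left ≫ (fst X F).left = pullback.fst φ.left U.hom := Over.w e.hom.hom
  have he' : e.inv.hom.left ≫ pullback.fst φ.left U.hom = (fst X F).left := Over.w e.inv.hom
  have heq₁ : e.hom.hom.left ≫ e.inv.hom.left = 𝟙 _ := congrArg (fun m => m.hom.left) e.hom_inv_id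
  have heq₂ : e.inv.hom.left ≫ e.hom.hom.left = 𝟙 _ := congrArg (fun m => m.hom.left) e.inv_hom_id
  let Q : Over S := Over.mk (U.hom ≫ Y.hom)
  let q : X ⊗ F ⟶ Q := Over.homMk (e.inv.hom.left ≫ pullback.snd φ.left U.hom) (by
    change (_ ≫ _) ≫ U.hom ≫ Y.hom = (X ⊗ F).hom
    rw [Category.assoc, ← reassoc_of% (pullback.condition (f := φ.left) (g := U.hom)), reassoc_of% he',
      Over.w φ, Over.w (fst X F)])
  let r : Q ⟶ Y := Over.homMk U.hom rfl
  let eI : (X ⊗ F).left ≅ pullback φ.left U.hom := ⟨e.inv.hom.left, e.hom.hom.left, heq₂, heq₁⟩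
  have sq : IsPullback (fst X F).left q.left φ.left r.left :=
    IsPullback.of_iso (IsPullback.of_hasPullback φ.left U.hom) eI.symm (Iso.refl _) (Iso.refl _) (Iso.refl _)
      ((Category.comp_id _).trans (he.symm)) (by
        change pullback.snd φ.left U.hom ≫ 𝟙 _ = e.hom.hom.left ≫ e.inv.hom.left ≫ pullback.snd φ.left U.hom
        rw [reassoc_of% heq₁, Category.comp_id])
      (by simp) (by simp [r])
  have hext : ∀ {W : Over S} (V V' : W ⟶ X ⊗ F), V ≫ fst X F = V' ≫ fst X F → V ≫ q = V' ≫ q → V = V' :=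
    fun V V' h1 h2 => Over.OverMorphism.ext (sq.hom_ext (congrArg Over.Hom.left h1) (congrArg Over.Hom.left h2))
  have hinv : ∀ {W : Over S} (g : W ⟶ G) (V : W ⟶ X ⊗ F), (lift g V ≫ (a.prod b).act) ≫ q = V ≫ q := by
    intro W g V
    refine Over.OverMorphism.ext ?_
    have hh : (V ≫ fst X F).left ≫ φ.left = (lift g (V ≫ fst X F) ≫ a.act).left ≫ φ.left := by
      rw [← Over.comp_left, ← Over.comp_left, Category.assoc (lift g _), hcart.w, lift_snd_assoc]
    have hc := e.inv.comm (V ≫ fst X F).left (lift g (V ≫ fst X F) ≫ a.act).left hh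
      ⟨V.left, rfl⟩ ⟨V.left ≫ e.inv.hom.left, by
        change (V.left ≫ e.inv.hom.left) ≫ pullback.fst φ.left U.hom = (V ≫ fst X F).left
        rw [Category.assoc, he']; rfl⟩ rfl
    change (Desc.canMap φ.left U _ _ hh _).1 = (glue hcart b _ _ hh ⟨V.left, rfl⟩).1 ≫ e.inv.hom.left at hc
    rw [glue_eq hcart b g V _ _ hh ⟨V.left, rfl⟩ rfl rfl, Desc.canMap_val] at hc
    have h2 := congrArg (· ≫ pullback.snd φ.left U.hom) hc
    simp only [pullback.lift_snd, Category.assoc] at h2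
    exact h2.symm
  have hex : ∀ {W : Over S} (V V' : W ⟶ X ⊗ F), V ≫ q = V' ≫ q → ∃ g, lift g V' ≫ (a.prod b).act = V := by
    intro W V V' hq
    have hφ : (V ≫ fst X F) ≫ φ = (V' ≫ fst X F) ≫ φ := Over.OverMorphism.ext (by
      have := congrArg (fun m => m.left ≫ r.left) hq
      simp only [Over.comp_left, Category.assoc, ← sq.w] at this
      simpa only [Over.comp_left, Category.assoc] using this)
    refine ⟨div hcart (V' ≫ fst X F) (V ≫ fst X F) hφ, hext _ _ ?_ ((hinv _ _).trans hq.symm)⟩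
    rw [AlgGrp.Action.prod_act, comp_lift, lift_fst, lift_whiskerLeft_assoc, div_spec]
  refine ⟨Q, q, r, sq, IsPullback.of_isLimit' ⟨?_⟩ (PullbackCone.IsLimit.mk _
    (fun c => lift (hex c.fst c.snd c.condition).choose c.snd) (fun c => (hex c.fst c.snd c.condition).choose_spec)
    (fun c => lift_snd _ _) fun c m e1 e2 => ?_)⟩
  · refine AlgGrp.Action.hom_ext_lift₂ fun W g V => ?_
    rw [← Category.assoc, hinv, lift_snd_assoc]
  · have hm : m = lift (m ≫ fst G (X ⊗ F)) c.snd :=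
      CartesianMonoidalCategory.hom_ext _ _ (lift_fst _ _).symm (e2.trans (lift_snd _ _).symm)
    rw [hm]
    congr 1
    refine act_cancel hcart (x := c.snd ≫ fst X F) ?_
    have h1 : lift (m ≫ fst G (X ⊗ F)) c.snd ≫ (a.prod b).act
        = lift (hex c.fst c.snd c.condition).choose c.snd ≫ (a.prod b).act := by
      rw [← hm, (hex c.fst c.snd c.condition).choose_spec]; exact e1
    simpa only [AlgGrp.Action.prod_act, comp_lift, lift_whiskerLeft_assoc, lift_fst, lift_snd, Category.assoc]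
      using congrArg (· ≫ fst X F) h1

end Groth.Agent.AssocBun
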